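import Cfsg.Agent.H87.MP.Abs
import Cfsg.Agent.H58.Cop.MSc
import Cfsg.Agent.H199.AbMon
import Cfsg.Agent.H332.MonUpper
import Cfsg.Agent.H149.Sp.Monster
import Cfsg.Agent.H606.PQR.Pieces

/-!
# S3988, row M: the centralizers of the elements of order 41 and 71 (helper87)
-/

set_option autoImplicit false
set_option maxRecDepth 100000

namespace Cfsg.Agent.H87.MP

open Subgroup Cfsg
open Cfsg.Agent.H995.CopEngine
open Cfsg.Agent.BpSpor.MBigModel Cfsg.Agent.H58.Cop.MLow Cfsg.Agent.H58.Cop.M
open Cfsg.Agent.LThreeB.Row (TA)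

/-- `|M|` -/
abbrev NM : ℕ := 808017424794512875886459904961710757005754368000000000

theorem rank_mg : PRankLE 2 15 MG := by
  obtain ⟨e⟩ := Cfsg.Agent.MonsterP.Equiv.equiv
  intro A hA hA2
  have h := Cfsg.Agent.H332.MonUpper.monster_le (A.map e.symm.toMonoidHom) ?_ ?_
  · rwa [Subgroup.card_map_of_injective e.symm.injective] at h
  · refine ⟨⟨?_⟩⟩
    rintro ⟨_, a, ha, rfl⟩ ⟨_, b, hb, rfl⟩
    apply Subtype.ext
    show e.symm a * e.symm b = e.symm b * e.symm a
    rw [← map_mul, ← map_mul]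
    have h1 : a * b = b * a := congrArg Subtype.val (hA.is_comm.comm (⟨a, ha⟩ : A) ⟨b, hb⟩)
    rw [h1]
  · rintro _ ⟨a, ha, rfl⟩
    show (e.symm a) ^ 2 = 1
    rw [← map_pow, hA2 a ha, map_one]

theorem hyp {p : ℕ} (hp : p = 41 ∨ p = 71) (hs : ∀ H : Subgroup MG, H ≠ ⊤ → IsPSolvable p H) :
    Hyp p MG {t | TA t} where
  simple := simple
  big := by omega
  sq := by rw [card_M]; rcases hp with rfl | rfl <;> norm_num
  solv := hs
  inv := by
    intro t ht
    rcases cls ht with ⟨g, hg⟩ | h
    · rw [BpSpor.card_cent_of_conj hg, card_cent_z]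
      rcases hp with rfl | rfl <;> norm_num
    · rw [card_cent_t h]
      rcases hp with rfl | rfl <;> norm_num
  rank := rank_mg
  two := by
    intro k h1 h2
    rcases hp with rfl | rfl <;> interval_cases k <;> norm_num
  cen := center_model
  conj := fun d hd g => ta_conj hd g
  ord := fun d hd => orderOf_ta hd
  six := fun d hd e he => six_ta hd he

theorem fact_eq {n q k : ℕ} (hq : q.Prime) (hn : n ≠ 0) (h1 : q ^ k ∣ n) (h2 : ¬ q ^ (k + 1) ∣ n) :
    n.factorization q = k := by
  apply le_antisymm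
  · by_contra h
    exact h2 ((hq.pow_dvd_iff_le_factorization hn).2 (by omega))
  · exact (hq.pow_dvd_iff_le_factorization hn).1 h1

theorem fact_le {n q k : ℕ} (hq : q.Prime) (hn : n ≠ 0) (h2 : ¬ q ^ (k + 1) ∣ n) : n.factorization q ≤ k := by
  by_contra h
  exact h2 ((hq.pow_dvd_iff_le_factorization hn).2 (by omega))

theorem eq_prod {n : ℕ} (hn : n ≠ 0) (T : Finset ℕ) (h : ∀ q, q.Prime → q ∣ n → q ∈ T) :
    n = ∏ q ∈ T, q ^ n.factorization q := by
  conv_lhs => rw [← Nat.factorization_prod_pow_eq_self hn]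
  apply Finsupp.prod_of_support_subset
  · intro q hq
    rw [Nat.support_factorization, Nat.mem_primeFactors] at hq
    exact h q hq.1 hq.2.1
  · intro q _
    exact pow_zero q

section Common

variable {p : ℕ} [hpf : Fact p.Prime] {x : MG}

/-- the primes which are excluded for both `p` -/
theorem not_common (hp : p = 41 ∨ p = 71) (B : Hyp p MG {t | TA t}) (hK : AllKnown.{0}) (hx : orderOf x = p) {q : ℕ}
    (hq : q ∈ ([2, 11, 13, 17, 19, 23, 31, 47, 59] : List ℕ)) : ¬ q ∣ Nat.card (centralizer ({x} : Set MG)) := by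
  have hfin := finite
  intro hd
  obtain ⟨t, ht⟩ := exists_ta
  simp only [List.mem_cons, List.not_mem_nil, or_false] at hq
  have key : ∀ (q m : ℕ) (hq : q.Prime), ¬ q ∣ p * (p - 1) → ¬ q ^ (m + 1) ∣ NM → condB p q m = true →
      q ∣ 2 * 4154781481226426191177580544000000 → ¬ q ∣ Nat.card (centralizer ({x} : Set MG)) := by
    intro q m hq h1 h2 h3 h4
    have : Fact q.Prime := ⟨hq⟩
    refine B.not_dvd hx (show t ∈ {t | TA t} from ht) h1 ?_ (by rw [card_cent_t ht]; exact h4)
    rw [card_M]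
    exact cond_of_chk hq h2 h3
  rcases hq with rfl | rfl | rfl | rfl | rfl | rfl | rfl | rfl | rfl
  · obtain ⟨s, hs⟩ := exists_ord_of_dvd Nat.prime_two hd
    exact B.no_inv hx (by rw [Subgroup.orderOf_coe, hs]) (mem_centralizer_singleton_iff.1 s.2)
  · refine key 11 2 (by norm_num) ?_ (by norm_num) ?_ (by norm_num) hd
    · rcases hp with rfl | rfl <;> norm_num
    · rcases hp with rfl | rfl <;> decide +kernel
  · refine key 13 3 (by norm_num) ?_ (by norm_num) ?_ (by norm_num) hd
    · rcases hp with rfl | rfl <;> norm_num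
    · rcases hp with rfl | rfl <;> decide +kernel
  · refine key 17 1 (by norm_num) ?_ (by norm_num) ?_ (by norm_num) hd
    · rcases hp with rfl | rfl <;> norm_num
    · rcases hp with rfl | rfl <;> decide +kernel
  · refine key 19 1 (by norm_num) ?_ (by norm_num) ?_ (by norm_num) hd
    · rcases hp with rfl | rfl <;> norm_num
    · rcases hp with rfl | rfl <;> decide +kernel
  · refine key 23 1 (by norm_num) ?_ (by norm_num) ?_ (by norm_num) hd
    · rcases hp with rfl | rfl <;> norm_num
    · rcases hp with rfl | rfl <;> decide +kernel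
  · refine key 31 1 (by norm_num) ?_ (by norm_num) ?_ (by norm_num) hd
    · rcases hp with rfl | rfl <;> norm_num
    · rcases hp with rfl | rfl <;> decide +kernel
  · refine key 47 1 (by norm_num) ?_ (by norm_num) ?_ (by norm_num) hd
    · rcases hp with rfl | rfl <;> norm_num
    · rcases hp with rfl | rfl <;> decide +kernel
  · obtain ⟨y, hy⟩ := exists_ord_of_dvd prime59 hd
    have hy' : orderOf (y : MG) = 59 := by rw [Subgroup.orderOf_coe, hy]
    have h1 := (norm_fiftynine hK hy').1
    have h2 : x ∈ centralizer ({(y : MG)} : Set MG) :=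
      mem_centralizer_singleton_iff.2 (mem_centralizer_singleton_iff.1 y.2).symm
    have h3 := Subgroup.orderOf_dvd_natCard _ h2
    rw [h1, hx] at h3
    rcases hp with rfl | rfl <;> norm_num at h3

/-- if 29 divides `|C(x)|`, then so does 3 -/
theorem three_of_29 (hp : p = 41 ∨ p = 71) (B : Hyp p MG {t | TA t}) (hx : orderOf x = p)
    (hd : 29 ∣ Nat.card (centralizer ({x} : Set MG))) : 3 ∣ Nat.card (centralizer ({x} : Set MG)) := by
  have hfin := finite
  have h29 : Nat.Prime 29 := by norm_num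
  have : Fact (Nat.Prime 29) := ⟨h29⟩
  have : Fact (Nat.Prime 3) := ⟨Nat.prime_three⟩
  obtain ⟨w, hw⟩ := exists_ord_of_dvd h29 hd
  have hwo : orderOf (w : MG) = 29 := by rw [Subgroup.orderOf_coe, hw]
  have hw1 : (w : MG) ≠ 1 := by
    intro h
    rw [h, orderOf_one] at hwo
    norm_num at hwo
  -- the centralizer of `w` contains an element of order 3
  obtain ⟨u, y, hu, hy, huy, -⟩ := Cfsg.Agent.H149.Sp.exists_m
  have h3 : 3 ∣ Nat.card (centralizer ({(w : MG)} : Set MG)) := by
    have hidx : ∀ v : MG, orderOf v = 29 → ∃ P : Sylow 29 MG, (P : Subgroup MG) = zpowers v := by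
      intro v hv
      have hz : Nat.card (zpowers v) = 29 := by rw [Nat.card_zpowers, hv]
      refine ⟨Sylow.ofCard (zpowers v) ?_, rfl⟩
      rw [hz, card_M, fact_eq (k := 1) h29 (by norm_num) (by norm_num) (by norm_num), pow_one]
    obtain ⟨P, hP⟩ := hidx w hwo
    obtain ⟨Q, hQ⟩ := hidx u hu
    obtain ⟨g, hg⟩ := MulAction.exists_smul_eq MG Q P
    have h1 : g * u * g⁻¹ ∈ zpowers (w : MG) := by
      rw [← hP, ← hg]
      have hu' : u ∈ (Q : Subgroup MG) := by rw [hQ]; exact mem_zpowers u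
      exact ⟨u, hu', rfl⟩
    have h2 : orderOf (g * u * g⁻¹) = 29 := by
      rw [← MulAut.conj_apply, MulEquiv.orderOf_eq, hu]
    have h4 : zpowers (g * u * g⁻¹) = zpowers (w : MG) :=
      Subgroup.eq_of_le_of_card_ge (by rw [zpowers_le]; exact h1) (by rw [Nat.card_zpowers, Nat.card_zpowers, h2, hwo])
    have h5 : (w : MG) ∈ zpowers (g * u * g⁻¹) := by rw [h4]; exact mem_zpowers _
    obtain ⟨i, hi⟩ := mem_zpowers_iff.1 h5
    have h6 : orderOf (g * y * g⁻¹) = 3 := by
      rw [← MulAut.conj_apply, MulEquiv.orderOf_eq, hy]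
    have h7 : g * y * g⁻¹ ∈ centralizer ({(w : MG)} : Set MG) := by
      rw [mem_centralizer_singleton_iff, ← hi]
      have h8 : Commute (g * u * g⁻¹) (g * y * g⁻¹) := by
        show g * u * g⁻¹ * (g * y * g⁻¹) = g * y * g⁻¹ * (g * u * g⁻¹)
        calc g * u * g⁻¹ * (g * y * g⁻¹) = g * (u * y) * g⁻¹ := by group
          _ = g * (y * u) * g⁻¹ := by rw [huy]
          _ = g * y * g⁻¹ * (g * u * g⁻¹) := by group
      exact (h8.zpow_left i).eq.symm
    rw [← h6]
    exact Subgroup.orderOf_dvd_natCard _ h7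
  refine B.dvd_of_comm hx hw1 (mem_centralizer_singleton_iff.1 w.2).symm ?_ h3 ?_
  · rcases hp with rfl | rfl <;> norm_num
  · rw [card_M, fact_eq (k := 20) Nat.prime_three (by norm_num) (by norm_num) (by norm_num)]
    rcases hp with rfl | rfl <;> unfold Nat.ModEq <;> norm_num

end Common

/-! ### `p = 41` -/

instance fact41 : Fact (Nat.Prime 41) := ⟨by norm_num⟩
instance fact71 : Fact (Nat.Prime 71) := ⟨by norm_num⟩

set_option synthInstance.maxHeartbeats 400000 in
set_option synthInstance.maxSize 2000 in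
theorem chk41 : ∀ a ∈ ([0, 4] : List ℕ), ∀ b < 4, ∀ f < 2, ∀ g < 2, ∀ e < 41,
    ((f = 1 → a = 4) ∧ e ≠ 1 ∧ 40 % e = 0 ∧
    NM % (41 * (3 ^ a * (5 ^ b * (29 ^ f * 71 ^ g))) * e) = 0 ∧
    NM / (41 * (3 ^ a * (5 ^ b * (29 ^ f * 71 ^ g))) * e) % 41 = 1) →
    3 ^ a * (5 ^ b * (29 ^ f * 71 ^ g)) ≤ 125 := by
  decide +kernel

theorem card_le_41 (hK : AllKnown.{0}) (hs : ∀ H : Subgroup MG, H ≠ ⊤ → IsPSolvable 41 H) {x : MG}
    (hx : orderOf x = 41) : Nat.card (centralizer ({x} : Set MG)) ≤ 5125 := by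
  have hfin := finite
  have hsim := simple
  have B := hyp (Or.inl rfl) hs
  obtain ⟨t, ht⟩ := exists_ta
  set c := Nat.card (centralizer ({x} : Set MG)) with hc
  have hc0 : c ≠ 0 := Nat.card_pos.ne'
  have hcM : c ∣ NM := by
    have := Subgroup.card_subgroup_dvd_card (centralizer ({x} : Set MG))
    rwa [card_M] at this
  have h41 : 41 ∣ c := by
    rw [← hx]
    exact Subgroup.orderOf_dvd_natCard _ (mem_centralizer_singleton_iff.2 rfl)
  -- 7 by (G1)
  have h7 : ¬ 7 ∣ c := by
    have : Fact (Nat.Prime 7) := ⟨by norm_num⟩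
    refine B.not_dvd hx (show t ∈ {t | TA t} from ht) (by norm_num) ?_ (by rw [card_cent_t ht]; norm_num)
    rw [card_M]
    exact cond_of_chk (m := 6) (by norm_num) (by norm_num) (by decide +kernel)
  have hprimes : ∀ q, q.Prime → q ∣ c → q ∈ ({41, 3, 5, 29, 71} : Finset ℕ) := by
    intro q hq hd
    have h1 := mem_primes hq (hd.trans hcM)
    simp only [List.mem_cons, List.not_mem_nil, or_false] at h1
    have h2 : ∀ r ∈ ([2, 11, 13, 17, 19, 23, 31, 47, 59] : List ℕ), q ≠ r := by
      rintro r hr rfl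
      exact not_common (Or.inl rfl) B hK hx hr hd
    simp only [List.mem_cons, List.not_mem_nil, or_false, forall_eq_or_imp, forall_eq] at h2
    have h3 : q ≠ 7 := by rintro rfl; exact h7 hd
    simp only [Finset.mem_insert, Finset.mem_singleton]
    omega
  have e41 : c.factorization 41 = 1 := fact_eq (by norm_num) hc0 (by rw [pow_one]; exact h41) fun h => by
    have := h.trans hcM
    norm_num at this
  have e29 : c.factorization 29 ≤ 1 := fact_le (by norm_num) hc0 fun h => by
    have := h.trans hcM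
    norm_num at this
  have e71 : c.factorization 71 ≤ 1 := fact_le (by norm_num) hc0 fun h => by
    have := h.trans hcM
    norm_num at this
  have e5 : c.factorization 5 ≤ 3 := by
    have h1 := B.pigeon (q := 5) (a := c.factorization 5) (b := 6) (n := 9) hx (show t ∈ {t | TA t} from ht) (by norm_num)
      (Nat.ordProj_dvd _ _) (by rw [card_cent_t ht]; norm_num) (by rw [card_M]; norm_num)
    omega
  have e3 : 3 ∣ c → c.factorization 3 = 4 := by
    intro h3
    have : Fact (Nat.Prime 3) := ⟨Nat.prime_three⟩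
    obtain ⟨a, R, ha1, ha, ha', -, hmod⟩ := B.part hx (q := 3) (by norm_num) h3
    have h4 : c.factorization 3 = a := fact_eq Nat.prime_three hc0 ha ha'
    rw [card_M, fact_eq (k := 20) Nat.prime_three (by norm_num) (by norm_num) (by norm_num)] at hmod
    have h5 := B.pigeon (q := 3) (a := a) (b := 13) (n := 20) hx (show t ∈ {t | TA t} from ht) (by norm_num)
      ha (by rw [card_cent_t ht]; norm_num) (by rw [card_M]; norm_num)
    have h6 : a ≤ 7 := by omega
    rw [h4]
    unfold Nat.ModEq at hmod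
    interval_cases a <;> first | rfl | (exfalso; norm_num at hmod)
  have e3' : c.factorization 3 ∈ ([0, 4] : List ℕ) := by
    by_cases h3 : 3 ∣ c
    · rw [e3 h3]; simp
    · rw [Nat.factorization_eq_zero_of_not_dvd h3]; simp
  have hf : c.factorization 29 = 1 → c.factorization 3 = 4 := by
    intro h
    apply e3
    apply three_of_29 (Or.inl rfl) B hx
    exact (Nat.Prime.dvd_iff_one_le_factorization (by norm_num) hc0).2 (by omega)
  have hcc : c = 41 * (3 ^ c.factorization 3 * (5 ^ c.factorization 5 * (29 ^ c.factorization 29 * 71 ^ c.factorization 71))) := by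
    conv_lhs => rw [eq_prod hc0 _ hprimes]
    rw [Finset.prod_insert (by decide), Finset.prod_insert (by decide), Finset.prod_insert (by decide),
      Finset.prod_insert (by decide), Finset.prod_singleton, e41, pow_one]
  obtain ⟨e, he, he1, hN, h0, h1⟩ := Cfsg.Agent.H58.Cop.arith (s := 41) (by norm_num) hx (by rw [card_M]; norm_num)
    (by rw [card_M]; norm_num)
  rw [← hc, card_M] at h0 h1
  have he40 : e ≤ 40 := Nat.le_of_dvd (by norm_num) he
  have key := chk41 _ e3' _ (show c.factorization 5 < 4 by omega) _ (show c.factorization 29 < 2 by omega) _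
    (show c.factorization 71 < 2 by omega) e (by omega) ⟨hf, he1, Nat.mod_eq_zero_of_dvd he,
    by rw [← hcc]; exact Nat.mod_eq_zero_of_dvd h0, by rw [← hcc]; exact h1⟩
  rw [hcc]
  calc 41 * (3 ^ c.factorization 3 * (5 ^ c.factorization 5 * (29 ^ c.factorization 29 * 71 ^ c.factorization 71)))
      ≤ 41 * 125 := Nat.mul_le_mul_left _ key
    _ = 5125 := by norm_num

/-! ### `p = 71` -/

set_option synthInstance.maxHeartbeats 400000 in
set_option synthInstance.maxSize 2000 in
theorem chk71 : ∀ b < 4, ∀ d < 5, ∀ g < 2, ∀ e < 71, (e ≠ 1 ∧ 70 % e = 0 ∧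
    NM % (71 * (5 ^ b * (7 ^ d * 41 ^ g)) * e) = 0 ∧
    NM / (71 * (5 ^ b * (7 ^ d * 41 ^ g)) * e) % 71 = 1) →
    5 ^ b * (7 ^ d * 41 ^ g) ≤ 7 ∨ 5 ^ b * (7 ^ d * 41 ^ g) = 14063 := by
  decide +kernel

theorem chkdiv : ∀ i < 4, (7 ^ i * 1 % 41 = 1 → 7 ^ i * 1 = 1) ∧ (7 ^ i * 71 % 41 = 1 → 7 ^ i * 71 = 1) := by
  decide +kernel

/-- the case `|C(x)| = 71 · 41 · 7³` -/
theorem kill {x : MG} (hc : Nat.card (centralizer ({x} : Set MG)) = 71 * 14063) : False := by
  have hfin := finite
  set C := centralizer ({x} : Set MG) with hC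
  obtain ⟨P⟩ : Nonempty (Sylow 41 C) := inferInstance
  have hPc : Nat.card (P : Subgroup C) = 41 := by
    rw [Sylow.card_eq_multiplicity P, hc, fact_eq (k := 1) (by norm_num) (by norm_num) (by norm_num) (by norm_num), pow_one]
  have hPi : (P : Subgroup C).index = 71 * 343 := by
    have h1 := (P : Subgroup C).card_mul_index
    rw [hPc, hc] at h1
    omega
  have h1 : Nat.card (Sylow 41 C) ∣ 7 ^ 3 * 71 := by
    have := Sylow.card_dvd_index P
    rw [hPi] at this
    exact this
  have h2 : Nat.card (Sylow 41 C) % 41 = 1 := card_sylow_modEq_one 41 C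
  have h3 : Nat.card (Sylow 41 C) = 1 := by
    obtain ⟨a, b, ha, hb, hab⟩ := exists_dvd_and_dvd_of_dvd_mul h1
    obtain ⟨i, hi, rfl⟩ := (Nat.dvd_prime_pow (by norm_num)).1 ha
    rw [hab] at h2 ⊢
    rcases (Nat.dvd_prime (show Nat.Prime 71 by norm_num)).1 hb with rfl | rfl
    · exact (chkdiv i (by omega)).1 h2
    · exact (chkdiv i (by omega)).2 h2
  have hsub : Subsingleton (Sylow 41 C) := (Nat.card_eq_one_iff_unique.1 h3).1
  have hPn : (P : Subgroup C).Normal := inferInstance
  have h4 := relIndex_centralizer_dvd (r := 41) (by norm_num) (P : Subgroup C) hPc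
  rw [Subgroup.normalizer_eq_top_iff.2 hPn, Subgroup.relIndex_top_right] at h4
  have h5 : 7 ∣ Nat.card (centralizer ((P : Subgroup C) : Set C)) := by
    have h6 := (centralizer ((P : Subgroup C) : Set C)).card_mul_index
    rw [hc] at h6
    have h7 : 7 ∣ Nat.card (centralizer ((P : Subgroup C) : Set C)) * (centralizer ((P : Subgroup C) : Set C)).index := by
      rw [h6]; norm_num
    refine ((Nat.Prime.dvd_mul (by norm_num)).1 h7).resolve_right fun h8 => ?_
    have h9 := h8.trans h4
    norm_num at h9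
  obtain ⟨v, hv⟩ := exists_ord_of_dvd (p := 7) (by norm_num) h5
  obtain ⟨u, hu⟩ := exists_ord_of_dvd (p := 41) (G := (P : Subgroup C)) (by norm_num) (by rw [hPc])
  have huv : ((u : C) : MG) * ((v : C) : MG) = ((v : C) : MG) * ((u : C) : MG) :=
    congrArg Subtype.val (mem_centralizer_iff.1 v.2 (u : C) u.2)
  have hvo : orderOf ((v : C) : MG) = 7 := by rw [Subgroup.orderOf_coe, Subgroup.orderOf_coe, hv]
  have huo : orderOf ((u : C) : MG) = 41 := by rw [Subgroup.orderOf_coe, Subgroup.orderOf_coe, hu]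
  apply Cfsg.Agent.H199.AbMon.seven_not_dvd (r := 41) (by simp) hvo
  have h6 := Subgroup.orderOf_dvd_natCard _ (mem_centralizer_singleton_iff.2 huv)
  rwa [huo] at h6

theorem card_le_71 (hK : AllKnown.{0}) (hs : ∀ H : Subgroup MG, H ≠ ⊤ → IsPSolvable 71 H) {x : MG}
    (hx : orderOf x = 71) : Nat.card (centralizer ({x} : Set MG)) ≤ 5125 := by
  have hfin := finite
  have hsim := simple
  have B := hyp (Or.inr rfl) hs
  obtain ⟨t, ht⟩ := exists_ta
  set c := Nat.card (centralizer ({x} : Set MG)) with hc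
  have hc0 : c ≠ 0 := Nat.card_pos.ne'
  have hcM : c ∣ NM := by
    have := Subgroup.card_subgroup_dvd_card (centralizer ({x} : Set MG))
    rwa [card_M] at this
  have h71 : 71 ∣ c := by
    rw [← hx]
    exact Subgroup.orderOf_dvd_natCard _ (mem_centralizer_singleton_iff.2 rfl)
  have h3 : ¬ 3 ∣ c := by
    have : Fact (Nat.Prime 3) := ⟨by norm_num⟩
    refine B.not_dvd hx (show t ∈ {t | TA t} from ht) (by norm_num) ?_ (by rw [card_cent_t ht]; norm_num)
    rw [card_M]
    exact cond_of_chk (m := 20) (by norm_num) (by norm_num) (by decide +kernel)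
  have h29 : ¬ 29 ∣ c := fun h => h3 (three_of_29 (Or.inr rfl) B hx h)
  have hprimes : ∀ q, q.Prime → q ∣ c → q ∈ ({71, 5, 7, 41} : Finset ℕ) := by
    intro q hq hd
    have h1 := mem_primes hq (hd.trans hcM)
    simp only [List.mem_cons, List.not_mem_nil, or_false] at h1
    have h2 : ∀ r ∈ ([2, 11, 13, 17, 19, 23, 31, 47, 59] : List ℕ), q ≠ r := by
      rintro r hr rfl
      exact not_common (Or.inr rfl) B hK hx hr hd
    simp only [List.mem_cons, List.not_mem_nil, or_false, forall_eq_or_imp, forall_eq] at h2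
    have h4 : q ≠ 3 := by rintro rfl; exact h3 hd
    have h5 : q ≠ 29 := by rintro rfl; exact h29 hd
    simp only [Finset.mem_insert, Finset.mem_singleton]
    omega
  have e71 : c.factorization 71 = 1 := fact_eq (by norm_num) hc0 (by rw [pow_one]; exact h71) fun h => by
    have := h.trans hcM
    norm_num at this
  have e41 : c.factorization 41 ≤ 1 := fact_le (by norm_num) hc0 fun h => by
    have := h.trans hcM
    norm_num at this
  have e5 : c.factorization 5 ≤ 3 := by
    have h1 := B.pigeon (q := 5) (a := c.factorization 5) (b := 6) (n := 9) hx (show t ∈ {t | TA t} from ht) (by norm_num)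
      (Nat.ordProj_dvd _ _) (by rw [card_cent_t ht]; norm_num) (by rw [card_M]; norm_num)
    omega
  have e7 : c.factorization 7 ≤ 4 := by
    have h1 := B.pigeon (q := 7) (a := c.factorization 7) (b := 2) (n := 6) hx (show t ∈ {t | TA t} from ht) (by norm_num)
      (Nat.ordProj_dvd _ _) (by rw [card_cent_t ht]; norm_num) (by rw [card_M]; norm_num)
    omega
  have hcc : c = 71 * (5 ^ c.factorization 5 * (7 ^ c.factorization 7 * 41 ^ c.factorization 41)) := by
    conv_lhs => rw [eq_prod hc0 _ hprimes]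
    rw [Finset.prod_insert (by decide), Finset.prod_insert (by decide), Finset.prod_insert (by decide),
      Finset.prod_singleton, e71, pow_one]
  obtain ⟨e, he, he1, hN, h0, h1⟩ := Cfsg.Agent.H58.Cop.arith (s := 71) (by norm_num) hx (by rw [card_M]; norm_num)
    (by rw [card_M]; norm_num)
  rw [← hc, card_M] at h0 h1
  have he70 : e ≤ 70 := Nat.le_of_dvd (by norm_num) he
  have key := chk71 _ (show c.factorization 5 < 4 by omega) _ (show c.factorization 7 < 5 by omega) _
    (show c.factorization 41 < 2 by omega) e (by omega) ⟨he1, Nat.mod_eq_zero_of_dvd he,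
    by rw [← hcc]; exact Nat.mod_eq_zero_of_dvd h0, by rw [← hcc]; exact h1⟩
  rcases key with key | key
  · rw [hcc]
    calc 71 * (5 ^ c.factorization 5 * (7 ^ c.factorization 7 * 41 ^ c.factorization 41))
        ≤ 71 * 7 := Nat.mul_le_mul_left _ key
      _ ≤ 5125 := by norm_num
  · exfalso
    rw [key] at hcc
    exact kill hcc

theorem solv_congr {G H : Type*} [Group G] [Group H] {p : ℕ} [Fact p.Prime] (e : G ≃* H)
    (h : ∀ K : Subgroup G, K ≠ ⊤ → IsPSolvable p K) : ∀ K : Subgroup H, K ≠ ⊤ → IsPSolvable p K := by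
  intro K hK
  have h1 : K.map e.symm.toMonoidHom ≠ ⊤ := by
    intro h2
    apply hK
    rw [eq_top_iff]
    intro a _
    have h3 : e.symm a ∈ K.map e.symm.toMonoidHom := by rw [h2]; trivial
    obtain ⟨b, hb, hba⟩ := h3
    have : b = a := e.symm.injective hba
    rwa [this] at hb
  exact (PLocal.PSolvable.isPSolvable_congr (K.equivMapOfInjective e.symm.toMonoidHom e.symm.injective)).2 (h _ h1)

theorem piece_MP41 (hK : AllKnown.{0}) : H606.PQR.PieceMP 41 := by
  intro hs y hy
  obtain ⟨e⟩ := Cfsg.Agent.MonsterP.Equiv.equiv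
  rw [H537.Cop.card_centralizer_equiv e]
  exact card_le_41 hK (solv_congr e hs) (by rw [MulEquiv.orderOf_eq, hy])

theorem piece_MP71 (hK : AllKnown.{0}) : H606.PQR.PieceMP 71 := by
  intro hs y hy
  obtain ⟨e⟩ := Cfsg.Agent.MonsterP.Equiv.equiv
  rw [H537.Cop.card_centralizer_equiv e]
  exact card_le_71 hK (solv_congr e hs) (by rw [MulEquiv.orderOf_eq, hy])

end Cfsg.Agent.H87.MP
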